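import Cfsg.Agent.Lib.PermComp.Simple

/-!
# Cheaper simplicity certificates

In `Cfsg.Agent.Lib.PermComp.Simple` the normal closure of an element is shown to be the whole group
by a stabilizer chain for the group generated by some conjugates.  Here the generators of the group
are directly expressed by straight line programs in the conjugates, which needs no chain at all.
-/

namespace Cfsg.Agent.Lib.HS.Fast

open _root_.Cfsg.Agent.Lib.PermComp _root_.Cfsg.Agent.Lib.PermComp.Core
  _root_.Cfsg.Agent.Lib.PermComp.Simple Subgroup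

/-- Certificate for the normal closure of one element. -/
structure RepF where
  /-- code of the element -/
  r : Nat
  /-- program for the conjugating elements -/
  vprog : List (Nat × Nat × Nat)
  /-- conjugates `(t, v)` with `t = v r v⁻¹` -/
  vs : List (Nat × Nat)
  /-- program for the generators of the group, from the conjugates -/
  gprog : List (Nat × Nat × Nat)

/-- Check of one normal closure. -/
noncomputable def repCheckF (n w mask idc : Nat) (Tg : List Nat) (rc : RepF) : Bool :=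
  ifB (slpCheck n w mask idc (rc.vs.map (·.2)) rc.vprog Tg.reverse Tg.length) <|
  ifB (allL (fun p => Nat.beq (comp n w mask p.1 p.2) (comp n w mask p.2 rc.r)) rc.vs) <|
  slpCheck n w mask idc Tg rc.gprog (rc.vs.map (·.1)).reverse (rc.vs.map (·.1)).length

section Sem

variable {n : Nat} {α : Type*} [Finite α] {w mask : Nat} {e : α ≃ Fin n} {L maskL idc : Nat}

/-- Soundness of `repCheckF`. -/
theorem normalClosure_of_repCheckF {Tg : List Nat} {rc : RepF}
    (hm : mask = 2 ^ w - 1) (hid : ∀ i < n, app w mask idc i = i)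
    (hT : ∀ c ∈ Tg, ∃ g, Rep w mask e c g)
    (hc : repCheckF n w mask idc Tg rc = true)
    {x : Equiv.Perm α} (hr : Rep w mask e rc.r x) (hx : x ∈ H w mask e Tg) :
    normalClosure ({(⟨x, hx⟩ : H w mask e Tg)} : Set (H w mask e Tg)) = ⊤ := by
  simp only [repCheckF, ifB_eq_true] at hc
  obtain ⟨h1, h2, h3⟩ := hc
  have hvs : ∀ c ∈ rc.vs.map (·.2), ∃ g ∈ H w mask e Tg, Rep w mask e c g := by
    apply slp_sound hm hid (H w mask e Tg) (rc.vs.map (·.2)) rc.vprog Tg.reverse Tg.length
      (by simp) _ h1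
    intro c hc
    have hc' : c ∈ Tg := by simpa using hc
    obtain ⟨g, hg⟩ := hT c hc'
    exact ⟨g, H_of_rep hc' hg, hg⟩
  have hconj : ∀ p ∈ rc.vs, ∃ v ∈ H w mask e Tg, Rep w mask e p.1 (v * x * v⁻¹) := by
    intro p hp
    obtain ⟨v, hv, hrv⟩ := hvs p.2 (List.mem_map.2 ⟨p, hp, rfl⟩)
    refine ⟨v, hv, Rep.of_comp_eq hm hrv hr ?_⟩
    exact Nat.eq_of_beq_eq_true ((allL_eq_true _ _).1 h2 p hp)
  have hS : ∀ s ∈ {g : Equiv.Perm α | ∃ c ∈ rc.vs.map (·.1), Rep w mask e c g},
      ∃ v ∈ H w mask e Tg, s = v * x * v⁻¹ := by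
    rintro g ⟨c, hc, hg⟩
    obtain ⟨p, hp, rfl⟩ := List.mem_map.1 hc
    obtain ⟨v, hv, hrv⟩ := hconj p hp
    exact ⟨v, hv, hg.unique hrv⟩
  have hle : H w mask e (rc.vs.map (·.1)) ≤ H w mask e Tg := by
    apply (Subgroup.closure_le _).2
    intro g hg
    obtain ⟨v, hv, rfl⟩ := hS g hg
    exact mul_mem (mul_mem hv hx) (inv_mem hv)
  have hge : H w mask e Tg ≤ H w mask e (rc.vs.map (·.1)) := by
    have hgens : ∀ c ∈ Tg, ∃ g ∈ H w mask e (rc.vs.map (·.1)), Rep w mask e c g := by
      apply slp_sound hm hid (H w mask e (rc.vs.map (·.1))) Tg rc.gprog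
        (rc.vs.map (·.1)).reverse (rc.vs.map (·.1)).length (by simp) _ h3
      intro c hc
      have hc' : c ∈ rc.vs.map (·.1) := by simpa using hc
      obtain ⟨p, hp, rfl⟩ := List.mem_map.1 hc'
      obtain ⟨v, _, hrv⟩ := hconj p hp
      exact ⟨_, H_of_rep hc' hrv, hrv⟩
    apply (Subgroup.closure_le _).2
    rintro g ⟨c, hc, hg⟩
    obtain ⟨g', hg', hr'⟩ := hgens c hc
    rw [hg.unique hr']
    exact hg'
  have heq' : closure {g : Equiv.Perm α | ∃ c ∈ rc.vs.map (·.1), Rep w mask e c g} =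
      H w mask e Tg := le_antisymm hle hge
  exact normalClosure_eq_top_of_conj (H w mask e Tg) hx hS heq'

/-- The facts about one Sylow certificate, as subgroup statements. -/
theorem syl_soundF (hm : mask = 2 ^ w - 1) (hid : ∀ i < n, app w mask idc i = i)
    (hidc : idc < 2 ^ (n * w)) {Tg : List Nat} {lsG : List Lev} {N : Nat} {reps : List RepF}
    (hsem : Sem w mask e L maskL lsG)
    (heq : H w mask e Tg = H w mask e (topGens lsG))
    (hN0 : N ≠ 0)
    (hT : ∀ c ∈ Tg, ∃ g, Rep w mask e c g)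
    (hNcard : Nat.card (H w mask e Tg) = N)
    (hreps : ∀ rc ∈ reps, repCheckF n w mask idc Tg rc = true)
    {sc : SylCert} (hc : sylCheck n w mask L maskL idc Tg lsG N (reps.map (·.r)) sc = true) :
    sc.p.Prime ∧ H w mask e sc.Tp ≤ H w mask e Tg ∧ Nat.card (H w mask e sc.Tp) = sc.pk ∧
      sc.pk = sc.p ^ N.factorization sc.p ∧
      ∀ x ∈ H w mask e sc.Tp, x ^ sc.p = 1 → x ≠ 1 → ∀ hx : x ∈ H w mask e Tg,
        normalClosure ({(⟨x, hx⟩ : H w mask e Tg)} : Set (H w mask e Tg)) = ⊤ := by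
  simp only [sylCheck, ifB_eq_true] at hc
  obtain ⟨h1, h2, h3, h4, h5, h6, h7, h9, h8⟩ := hc
  have hp := isPrimeB_sound h1
  have hpk' : sc.p ^ Nat.log sc.p sc.pk = sc.pk := Nat.eq_of_beq_eq_true h2
  have hfac : sc.pk = sc.p ^ N.factorization sc.p := by
    refine factorization_of_check hp hpk' (Nat.eq_of_beq_eq_true h3) ?_ hN0
    intro h0
    rw [h0] at h4
    exact absurd h4 (by decide)
  have hTp : ∀ c ∈ sc.Tp, ∃ g, Rep w mask e c g :=
    fun c hc => exists_rep_of_valid hm hid ((allL_eq_true _ _).1 h9 c hc)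
  obtain ⟨_, _, _, _, _, hcard⟩ := main_of_checkAll (e := e) hTp h6
  have hle : H w mask e sc.Tp ≤ H w mask e Tg := by
    apply (Subgroup.closure_le _).2
    rintro g ⟨c, hc, hg⟩
    rw [heq]
    exact sift_sound_of_sem hm hid lsG hsem c g hg ((allL_eq_true _ _).1 h7 c hc)
  refine ⟨hp, hle, ?_, hfac, ?_⟩
  · rw [hcard]; exact Nat.eq_of_beq_eq_true h5
  · intro x hxP hxo hx1 hx
    refine closure_of_sylowCheck hm hid hidc hT h8 ?_ hxP hxo hx1 hx
    intro r hr
    obtain ⟨rc, hrc, rfl⟩ := List.mem_map.1 hr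
    intro y hy hyG
    exact normalClosure_of_repCheckF hm hid hT (hreps rc hrc) hy hyG

/-- The group generated by `Tg` is simple: all primes version. -/
theorem isSimple_of_certF {Tg : List Nat} {progG : List (Nat × Nat × Nat)} {lsG : List Lev} {N : Nat}
    {reps : List RepF} {syls : List SylCert}
    (hT : ∀ c ∈ Tg, ∃ g, Rep w mask e c g)
    (hG : checkAll n w mask L maskL idc Tg progG lsG = true)
    (hN : orderC lsG = N) (hN1 : 1 < N)
    (hreps : allL (repCheckF n w mask idc Tg) reps = true)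
    (hsyl : allL (sylCheck n w mask L maskL idc Tg lsG N (reps.map (·.r))) syls = true)
    (hprod : (syls.map (·.pk)).prod = N) :
    IsSimpleGroup (H w mask e Tg) := by
  obtain ⟨hm, hid, hidc, hsem, heq, hcard⟩ := main_of_checkAll (e := e) hT hG
  rw [hN] at hcard
  have hN0 : N ≠ 0 := by omega
  have hreps' := (allL_eq_true _ _).1 hreps
  have hsyl' := (allL_eq_true _ _).1 hsyl
  have hs := fun sc hsc => syl_soundF hm hid hidc hsem heq hN0 hT hcard hreps' (hsyl' sc hsc)
  haveI : Nontrivial (H w mask e Tg) := by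
    rw [← Finite.one_lt_card_iff_nontrivial, hcard]
    exact hN1
  classical
  refine isSimple_of_closures (fun q => if h : ∃ sc ∈ syls, sc.p = q then
    (H w mask e h.choose.Tp).subgroupOf (H w mask e Tg) else ⊥) ?_ ?_
  · intro q hq hd
    rw [hcard, ← hprod] at hd
    have hex := prime_mem_of_dvd_prod (fun sc hsc => (hs sc hsc).1)
      (fun sc hsc => by
        rw [(hs sc hsc).2.2.2.1]
        rw [Nat.log_pow (hs sc hsc).1.one_lt]) hq hd
    simp only [dif_pos hex]
    obtain ⟨h1, h2, h3, h4, h5⟩ := hs _ hex.choose_spec.1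
    rw [hex.choose_spec.2] at h4
    rw [hcard, ← h4, ← h3, Nat.card_congr (Subgroup.subgroupOfEquivOfLe h2).toEquiv]
  · intro q hq hd x hx hxo
    rw [hcard, ← hprod] at hd
    have hex := prime_mem_of_dvd_prod (fun sc hsc => (hs sc hsc).1)
      (fun sc hsc => by
        rw [(hs sc hsc).2.2.2.1]
        rw [Nat.log_pow (hs sc hsc).1.one_lt]) hq hd
    simp only [dif_pos hex] at hx
    obtain ⟨h1, h2, h3, h4, h5⟩ := hs _ hex.choose_spec.1
    have hq' := hex.choose_spec.2
    rw [hq'] at h5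
    have hxmem : (x : Equiv.Perm α) ∈ H w mask e hex.choose.Tp := hx
    have h6 := h5 (x : Equiv.Perm α) hxmem (by
      have := pow_orderOf_eq_one x
      rw [hxo] at this
      simpa using congrArg Subtype.val this) (by
      intro h1'
      have : x = 1 := Subtype.ext h1'
      rw [this, orderOf_one] at hxo
      exact hq.ne_one hxo.symm) x.2
    exact h6

end Sem

end Cfsg.Agent.Lib.HS.Fast
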