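import Cfsg.Agent.Lib.HS.Simple
import Cfsg.Prelude.Def_Sporadic
import Cfsg.Agent.Lib.SteinerSearch.S3622

/-!
# The 100-vertex point-block graph of `S(3, 6, 22)` carries a simple group of order 44352000

The standard `S(3, 6, 22)` gives an explicit graph on `Fin 100`, whose automorphism group contains
the simple group of `Cfsg.Agent.Lib.HS.Simple`; any `S(3, 6, 22)` has an isomorphic graph.
-/

set_option autoImplicit false

namespace Cfsg.Agent.Lib.HS.Graph

open Cfsg Cfsg.Agent.Lib.SteinerSearch.Core Cfsg.Agent.Lib.SteinerSearch.S3622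
  Cfsg.Agent.Lib.SteinerSearch.Uniq Cfsg.Agent.Lib.HS.Cert Cfsg.Agent.Lib.HS.Simple
  Cfsg.Agent.Lib.PermComp

/-- Mask of the block number `j`. -/
def blk (j : ℕ) : ℕ := nth S3622Std j

/-- The relation on numbers: `0` is the extra vertex, `1 + i` are the points, `23 + j` the blocks. -/
def adjRel (u v : ℕ) : Bool :=
  cond (Nat.beq u 0) (cond (Nat.ble 1 v) (Nat.ble v 22) false)
    (cond (Nat.ble u 22) (cond (Nat.ble 23 v) (tb (blk (v - 23)) (u - 1)) false)
      (cond (Nat.ble 23 v) (Nat.beq (Nat.land (blk (u - 23)) (blk (v - 23))) 0) false))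

/-- The graph on numbers. -/
def adjB (u v : ℕ) : Bool :=
  cond (Nat.beq u v) false (cond (adjRel u v) true (adjRel v u))

/-- The explicit graph. -/
def Γ₀ : SimpleGraph (Fin 100) :=
  SimpleGraph.fromRel fun u v => adjRel u.val v.val = true

theorem adj_iff (u v : Fin 100) : Γ₀.Adj u v ↔ adjB u.val v.val = true := by
  rw [Γ₀, SimpleGraph.fromRel_adj]
  unfold adjB
  by_cases h : u = v
  · subst h
    simp
  · have h' : Nat.beq u.val v.val = false := by
      rw [← Bool.not_eq_true, Nat.beq_eq]
      exact fun h2 => h (Fin.ext h2)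
    rw [h']
    cases h1 : adjRel u.val v.val <;> simp [h]

/-- The check that a code is an automorphism. -/
noncomputable def autCheck (c : ℕ) : Bool :=
  Core.allL (fun u => Core.allL (fun v =>
      Bool.rec (Bool.rec true false (adjB u v)) (adjB u v)
        (adjB (Core.app hs_w hs_mask c u) (Core.app hs_w hs_mask c v)))
      (List.range 100)) (List.range 100)

set_option maxRecDepth 100000 in
theorem autCheck_all : Core.allL autCheck hs_G_T = true := by
  decide +kernel

/-- The automorphisms of `Γ₀`, as permutations. -/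
def autS : Subgroup (Equiv.Perm (Fin 100)) where
  carrier := {g | ∀ u v, Γ₀.Adj (g u) (g v) ↔ Γ₀.Adj u v}
  mul_mem' := by
    intro a b ha hb u v
    rw [Equiv.Perm.mul_apply, Equiv.Perm.mul_apply, ha, hb]
  one_mem' := by
    intro u v
    rfl
  inv_mem' := by
    intro a ha u v
    have := ha (a⁻¹ u) (a⁻¹ v)
    have h1 : ∀ w, a (a⁻¹ w) = w := fun w => by simp
    rw [h1, h1] at this
    exact this.symm

theorem HH_le : HH ≤ autS := by
  apply (Subgroup.closure_le _).2
  rintro g ⟨c, hc, hg⟩ u v
  have h1 := (Core.allL_eq_true _ _).1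
    ((Core.allL_eq_true _ _).1 ((Core.allL_eq_true _ _).1 autCheck_all c hc) u.val
      (List.mem_range.2 u.2)) v.val (List.mem_range.2 v.2)
  have h2 : Core.app hs_w hs_mask c u.val = (g u).val := hg u
  have h3 : Core.app hs_w hs_mask c v.val = (g v).val := hg v
  rw [h2, h3] at h1
  rw [adj_iff, adj_iff]
  cases h4 : adjB (g u).val (g v).val with
  | true =>
    rw [h4] at h1
    simpa using h1.symm
  | false =>
    rw [h4] at h1
    cases h5 : adjB u.val v.val with
    | true => rw [h5] at h1; exact absurd h1 (by simp)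
    | false => simp

section transport

variable {V : Type*} {G : SimpleGraph V} (ψ : G ≃g Γ₀)

/-- An element of `autS` as a graph automorphism. -/
def toIso (g : autS) : Γ₀ ≃g Γ₀ := ⟨g.1, fun {a b} => g.2 a b⟩

/-- Transport of automorphisms along an isomorphism. -/
def Φ : autS →* (G ≃g G) where
  toFun g := ψ.trans ((toIso g).trans ψ.symm)
  map_one' := by
    ext x
    show ψ.symm (ψ x) = x
    simp
  map_mul' a b := by
    ext x
    show ψ.symm (a.1 (b.1 (ψ x))) = ψ.symm (a.1 (ψ (ψ.symm (b.1 (ψ x)))))
    simp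

theorem Φ_injective : Function.Injective (Φ ψ) := by
  intro a b h
  apply Subtype.ext
  ext u
  have h1 := congrArg (fun f : G ≃g G => ψ (f (ψ.symm u))) h
  have h2 : ∀ g : autS, ψ ((Φ ψ g) (ψ.symm u)) = g.1 u := by
    intro g
    show ψ (ψ.symm (g.1 (ψ (ψ.symm u)))) = g.1 u
    simp
  simp only [h2] at h1
  rw [h1]

include ψ in
theorem exists_isHS : ∃ H : Subgroup (G ≃g G), IsHS H := by
  refine ⟨(HH.subgroupOf autS).map (Φ ψ), ?_⟩
  have e1 := (Subgroup.equivMapOfInjective (HH.subgroupOf autS) (Φ ψ) (Φ_injective ψ)).symm.trans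
    (Subgroup.subgroupOfEquivOfLe HH_le)
  obtain ⟨h1, h2⟩ := hs_main
  exact ⟨e1.isSimpleGroup, (Nat.card_congr e1.toEquiv).trans h2⟩

end transport

/-! ### The isomorphism -/

/-- The numbering of the vertices. -/
def κN : Option (Fin 22 ⊕ Fin 77) → ℕ
  | none => 0
  | some (Sum.inl i) => 1 + i.val
  | some (Sum.inr j) => 23 + j.val

theorem κN_lt (x : Option (Fin 22 ⊕ Fin 77)) : κN x < 100 := by
  rcases x with _ | i | j
  · simp [κN]
  · simp only [κN]; omega
  · simp only [κN]; omega

/-- The numbering of the vertices. -/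
noncomputable def κ : Option (Fin 22 ⊕ Fin 77) ≃ Fin 100 :=
  Equiv.ofBijective (fun x => ⟨κN x, κN_lt x⟩) (by
    rw [Fintype.bijective_iff_injective_and_card]
    constructor
    · intro x y h
      have h1 : κN x = κN y := congrArg Fin.val h
      rcases x with _ | i | j <;> rcases y with _ | i' | j' <;> simp only [κN] at h1
      · rfl
      · omega
      · omega
      · omega
      · congr 2
        apply Fin.ext
        omega
      · omega
      · omega
      · omega
      · congr 2
        apply Fin.ext
        omega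
    · simp)

theorem nth_eq_getElem {l : List ℕ} {i : ℕ} (h : i < l.length) : nth l i = l[i] := by
  induction l generalizing i with
  | nil => simp at h
  | cons a l ih =>
    cases i with
    | zero => rfl
    | succ i => exact ih (by simpa using h)

theorem std_length : S3622Std.length = 77 := by
  decide +kernel

theorem std_nodup : S3622Std.Nodup := by
  decide +kernel

theorem std_lt : ∀ m ∈ S3622Std, m < 2 ^ 22 := by
  decide +kernel

theorem blk_mem (j : Fin 77) : blk j.val ∈ S3622Std := by
  have hj : j.val < S3622Std.length := by rw [std_length]; exact j.2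
  rw [blk, nth_eq_getElem hj]
  exact List.getElem_mem _

theorem blk_inj {i j : Fin 77} (h : blk i.val = blk j.val) : i = j := by
  have hi : i.val < S3622Std.length := by rw [std_length]; exact i.2
  have hj : j.val < S3622Std.length := by rw [std_length]; exact j.2
  rw [blk, blk, nth_eq_getElem hi, nth_eq_getElem hj] at h
  exact Fin.ext ((std_nodup.getElem_inj_iff).1 h)

theorem exists_blk {m : ℕ} (hm : m ∈ S3622Std) : ∃ j : Fin 77, blk j.val = m := by
  obtain ⟨i, hi, rfl⟩ := List.mem_iff_getElem.1 hm
  refine ⟨⟨i, by rw [std_length] at hi; exact hi⟩, ?_⟩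
  rw [blk, nth_eq_getElem hi]

section main

variable {α : Type*} [Fintype α] [DecidableEq α] {B : Set (Finset α)}

/-- Numbering of the points such that the blocks are the standard ones. -/
theorem exists_theta (hα : Fintype.card α = 22) (hB : IsSteinerSystem 3 6 B) :
    ∃ θ : α ≃ Fin 22, (fun b => b.image θ) '' B = mset 22 '' {m | m ∈ S3622Std} := by
  let τ : α ≃ Fin 22 := Fintype.equivFinOfCardEq hα
  obtain ⟨σ, hσ⟩ := exists_perm (isSteiner_map τ hB)
  refine ⟨τ.trans σ, ?_⟩
  rw [← hσ, Set.image_image]
  apply Set.image_congr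
  intro b _
  exact (image_comp_equiv τ σ b).symm

variable (θ : α ≃ Fin 22) (hθ : (fun b => b.image θ) '' B = mset 22 '' {m | m ∈ S3622Std})

include hθ in
theorem image_blk_mem (j : Fin 77) : (mset 22 (blk j.val)).image θ.symm ∈ B := by
  have h1 : mset 22 (blk j.val) ∈ (fun b => b.image θ) '' B := by
    rw [hθ]
    exact ⟨_, blk_mem j, rfl⟩
  obtain ⟨b, hb, h2⟩ := h1
  have h3 : (mset 22 (blk j.val)).image θ.symm = b := by
    rw [← h2]
    exact image_symm_image' θ b
  rw [h3]
  exact hb

/-- The block number `j`. -/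
def dd (j : Fin 77) : B := ⟨(mset 22 (blk j.val)).image θ.symm, image_blk_mem θ hθ j⟩

theorem image_dd (j : Fin 77) : ((dd θ hθ j : Finset α)).image θ = mset 22 (blk j.val) := by
  show ((mset 22 (blk j.val)).image θ.symm).image θ = _
  have := image_symm_image' θ.symm (mset 22 (blk j.val))
  simpa using this

theorem dd_bij : Function.Bijective (dd θ hθ) := by
  constructor
  · intro i j h
    have h1 : ((dd θ hθ i : Finset α)).image θ = ((dd θ hθ j : Finset α)).image θ := by rw [h]
    rw [image_dd, image_dd] at h1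
    exact blk_inj (mset_injOn (std_lt _ (blk_mem i)) (std_lt _ (blk_mem j)) h1)
  · rintro ⟨b, hb⟩
    have h1 : b.image θ ∈ mset 22 '' {m | m ∈ S3622Std} := by
      rw [← hθ]
      exact ⟨b, hb, rfl⟩
    obtain ⟨m, hm, h2⟩ := h1
    obtain ⟨j, rfl⟩ := exists_blk hm
    refine ⟨j, Subtype.ext ?_⟩
    show (mset 22 (blk j.val)).image θ.symm = b
    rw [h2]
    exact image_symm_image' θ b

/-- The numbering of the blocks. -/
noncomputable def dE : Fin 77 ≃ B := Equiv.ofBijective (dd θ hθ) (dd_bij θ hθ)

/-- The numbering of the vertices of the graph. -/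
noncomputable def ψE : Option (α ⊕ B) ≃ Fin 100 :=
  (Equiv.optionCongr (Equiv.sumCongr θ (dE θ hθ).symm)).trans κ

theorem ψE_none : (ψE θ hθ none).val = 0 := rfl

theorem ψE_inl (a : α) : (ψE θ hθ (some (Sum.inl a))).val = 1 + (θ a).val := rfl

theorem ψE_inr (j : Fin 77) : (ψE θ hθ (some (Sum.inr (dd θ hθ j)))).val = 23 + j.val := by
  show 23 + ((dE θ hθ).symm (dE θ hθ j)).val = 23 + j.val
  simp

theorem forall_block (P : B → Prop) (h : ∀ j, P (dd θ hθ j)) (b : B) : P b := by
  obtain ⟨j, rfl⟩ := (dd_bij θ hθ).2 b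
  exact h j

theorem adjRel_zero (v : ℕ) : adjRel 0 v = cond (Nat.ble 1 v) (Nat.ble v 22) false := rfl

theorem adjRel_pt {i : ℕ} (hi : i < 22) (v : ℕ) :
    adjRel (1 + i) v = cond (Nat.ble 23 v) (tb (blk (v - 23)) i) false := by
  have h1 : Nat.beq (1 + i) 0 = false := by
    rw [← Bool.not_eq_true, Nat.beq_eq]; omega
  have h2 : Nat.ble (1 + i) 22 = true := Nat.ble_eq_true_of_le (by omega)
  have h3 : 1 + i - 1 = i := by omega
  simp only [adjRel, h1, h2, cond_false, cond_true, h3]

theorem adjRel_bl (j v : ℕ) :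
    adjRel (23 + j) v =
      cond (Nat.ble 23 v) (Nat.beq (Nat.land (blk j) (blk (v - 23))) 0) false := by
  have h1 : Nat.beq (23 + j) 0 = false := by
    rw [← Bool.not_eq_true, Nat.beq_eq]; omega
  have h2 : Nat.ble (23 + j) 22 = false := by
    rw [← Bool.not_eq_true, Nat.ble_eq]; omega
  have h3 : 23 + j - 23 = j := by omega
  simp only [adjRel, h1, h2, cond_false, h3]

theorem rel_iff (x y : Option (α ⊕ B)) :
    pointBlockRel B x y ↔ adjRel (ψE θ hθ x).val (ψE θ hθ y).val = true := by
  rcases x with _ | a | b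
  · rcases y with _ | a' | b'
    · rw [ψE_none]; simp [pointBlockRel, adjRel_zero]
    · rw [ψE_none, ψE_inl, adjRel_zero]
      have h1 : (θ a').val < 22 := (θ a').2
      have h2 : Nat.ble 1 (1 + (θ a').val) = true := Nat.ble_eq_true_of_le (by omega)
      have h3 : Nat.ble (1 + (θ a').val) 22 = true := Nat.ble_eq_true_of_le (by omega)
      simp [pointBlockRel, h2, h3]
    · refine forall_block θ hθ (fun b' => pointBlockRel B none (some (Sum.inr b')) ↔
        adjRel (ψE θ hθ none).val (ψE θ hθ (some (Sum.inr b'))).val = true) ?_ b'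
      intro j
      rw [ψE_none, ψE_inr, adjRel_zero]
      have h3 : Nat.ble (23 + j.val) 22 = false := by
        rw [← Bool.not_eq_true, Nat.ble_eq]; omega
      simp [pointBlockRel, h3]
  · have hi : (θ a).val < 22 := (θ a).2
    rcases y with _ | a' | b'
    · rw [ψE_none, ψE_inl, adjRel_pt hi]
      simp [pointBlockRel]
    · rw [ψE_inl, ψE_inl, adjRel_pt hi]
      have h1 : (θ a').val < 22 := (θ a').2
      have h3 : Nat.ble 23 (1 + (θ a').val) = false := by
        rw [← Bool.not_eq_true, Nat.ble_eq]; omega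
      simp [pointBlockRel, h3]
    · refine forall_block θ hθ (fun b' => pointBlockRel B (some (Sum.inl a)) (some (Sum.inr b')) ↔
        adjRel (ψE θ hθ (some (Sum.inl a))).val (ψE θ hθ (some (Sum.inr b'))).val = true) ?_ b'
      intro j
      rw [ψE_inl, ψE_inr, adjRel_pt hi]
      have h3 : Nat.ble 23 (23 + j.val) = true := Nat.ble_eq_true_of_le (by omega)
      have h4 : 23 + j.val - 23 = j.val := by omega
      rw [h3, h4, cond_true, tb_eq]
      show a ∈ ((dd θ hθ j : B) : Finset α) ↔ _
      have h5 : a ∈ ((dd θ hθ j : B) : Finset α) ↔ θ a ∈ ((dd θ hθ j : B) : Finset α).image θ := by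
        simp
      rw [h5, image_dd]
      simp
  · refine forall_block θ hθ (fun b => pointBlockRel B (some (Sum.inr b)) y ↔
      adjRel (ψE θ hθ (some (Sum.inr b))).val (ψE θ hθ y).val = true) ?_ b
    intro j
    rcases y with _ | a' | b'
    · rw [ψE_none, ψE_inr, adjRel_bl]
      simp [pointBlockRel]
    · rw [ψE_inl, ψE_inr, adjRel_bl]
      have h1 : (θ a').val < 22 := (θ a').2
      have h3 : Nat.ble 23 (1 + (θ a').val) = false := by
        rw [← Bool.not_eq_true, Nat.ble_eq]; omega
      simp [pointBlockRel, h3]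
    · refine forall_block θ hθ (fun b' => pointBlockRel B (some (Sum.inr (dd θ hθ j))) (some (Sum.inr b')) ↔
        adjRel (ψE θ hθ (some (Sum.inr (dd θ hθ j)))).val (ψE θ hθ (some (Sum.inr b'))).val = true) ?_ b'
      intro j'
      rw [ψE_inr, ψE_inr, adjRel_bl]
      have h3 : Nat.ble 23 (23 + j'.val) = true := Nat.ble_eq_true_of_le (by omega)
      have h4 : 23 + j'.val - 23 = j'.val := by omega
      rw [h3, h4, cond_true]
      show Disjoint ((dd θ hθ j : B) : Finset α) ((dd θ hθ j' : B) : Finset α) ↔ _
      rw [← Finset.disjoint_image θ.injective, image_dd, image_dd, Finset.disjoint_iff_inter_eq_empty,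
        ← mset_and]
      have hlt : blk j.val &&& blk j'.val < 2 ^ 22 := lt_two_pow_of_and (std_lt _ (blk_mem j))
      constructor
      · intro h
        have h0 : mset 22 0 = ∅ := by
          ext i
          simp
        rw [← h0] at h
        have h5 := mset_injOn hlt (by norm_num) h
        show Nat.beq (blk j.val &&& blk j'.val) 0 = true
        rw [h5]
        rfl
      · intro h
        have h5 : blk j.val &&& blk j'.val = 0 := Nat.eq_of_beq_eq_true h
        rw [h5]
        ext i
        simp

/-- The isomorphism to the explicit graph. -/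
noncomputable def ψG : pointBlockGraph B ≃g Γ₀ where
  toEquiv := ψE θ hθ
  map_rel_iff' := by
    intro x y
    show (SimpleGraph.fromRel fun u v : Fin 100 => adjRel u.val v.val = true).Adj _ _ ↔
      (SimpleGraph.fromRel (pointBlockRel B)).Adj _ _
    rw [SimpleGraph.fromRel_adj, SimpleGraph.fromRel_adj]
    simp only [rel_iff θ hθ, Ne, (ψE θ hθ).apply_eq_iff_eq]

end main

/-- Result: the point-block graph of any `S(3, 6, 22)` has a group of automorphisms that is simple of order 44352000. -/
theorem exists_isHS_pointBlock {α : Type*} [Fintype α] (hα : Fintype.card α = 22)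
    {B : Set (Finset α)} (hB : IsSteinerSystem 3 6 B) :
    ∃ H : Subgroup (pointBlockGraph B ≃g pointBlockGraph B), IsHS H := by
  classical
  obtain ⟨θ, hθ⟩ := exists_theta hα hB
  exact exists_isHS (ψG θ hθ)

end Cfsg.Agent.Lib.HS.Graph
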