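import Cfsg.Agent.Lib.HS.Cert

/-!
# A simple permutation group of degree 100 and order 44352000
-/

set_option autoImplicit false

namespace Cfsg.Agent.Lib.HS.Simple

open Cfsg.Agent.Lib.PermComp Cfsg.Agent.Lib.HS Cfsg.Agent.Lib.HS.Cert

theorem hs_valid : Core.allL (Simple.validB hs_n hs_w hs_mask hs_idc) hs_G_T = true := by
  decide +kernel

theorem hs_idok : Core.allL (fun i => Nat.beq (Core.app hs_w hs_mask hs_idc i) i)
    (List.range hs_n) = true := by
  decide +kernel

/-- The group generated by the two generators. -/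
noncomputable abbrev HH : Subgroup (Equiv.Perm (Fin 100)) :=
  Core.H hs_w hs_mask (Equiv.refl (Fin hs_n)) hs_G_T

theorem hs_main : IsSimpleGroup HH ∧ Nat.card HH = 44352000 := by
  have hm : hs_mask = 2 ^ hs_w - 1 := by decide +kernel
  have hid : ∀ i < hs_n, Core.app hs_w hs_mask hs_idc i = i := fun i hi =>
    Nat.eq_of_beq_eq_true ((Core.allL_eq_true _ _).1 hs_idok i (List.mem_range.2 hi))
  have hT : ∀ c ∈ hs_G_T, ∃ g : Equiv.Perm (Fin hs_n),
      Core.Rep hs_w hs_mask (Equiv.refl (Fin hs_n)) c g := fun c hc =>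
    Simple.exists_rep_of_valid hm hid ((Core.allL_eq_true _ _).1 hs_valid c hc)
  constructor
  · exact Fast.isSimple_of_certF hT hs_G_ok hs_order (by norm_num) hs_reps_ok hs_syls_ok hs_prod
  · obtain ⟨-, -, -, -, -, h⟩ := Core.main_of_checkAll hT hs_G_ok
    exact h.trans hs_order

end Cfsg.Agent.Lib.HS.Simple
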